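import Mathlib
import Cfsg.Prelude.Def_ChevStructure
import Cfsg.Agent.Lib.helper14.INV.Defs

/-!
# Project TWI (S2183, S2182): involutions of twisted groups in characteristic two — definitions

The twisted group `G₁` is a subgroup of the Chevalley group `D.group F`. The "maximal Bruhat cell" argument of
project INV is run inside `D.group F`, but only conjugations by elements of `G₁` are allowed: fundamental
reflections are replaced by the products over the orbits `O` of the graph automorphism on the fundamental roots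
(the roots of an orbit being pairwise orthogonal).
-/

set_option autoImplicit false

namespace Cfsg.Agent.Lib.helper14.TWI

open Cfsg.Lie Cfsg.Lie.ChevalleyDatum Cfsg.Agent.Lib.helper8 Cfsg.Agent.Lib.helper14
  Cfsg.Agent.Lib.helper14.INV

universe u

variable {F : Type u} [Field F]

/-- conjugacy under a subgroup -/
def CjS (D : ChevalleyDatum) (G₁ : Subgroup (GL D.Idx F)) (a b : GL D.Idx F) : Prop :=
  ∃ g ∈ G₁, g * a * g⁻¹ = b

/-- the cell of `w` has maximal length among the cells met by the `G₁`-conjugates of `t` -/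
def IsMaxS (D : ChevalleyDatum) (hB : H8Base.{u} D) (hA : H8ReflAll D) (G₁ : Subgroup (GL D.Idx F))
    (t : GL D.Idx F) (w : List ℕ) : Prop :=
  ∀ g ∈ G₁, ∀ w' : List ℕ, ValidW D w' → InCell D hB (g * t * g⁻¹) w' →
    len D hA w' ≤ len D hA w

/-- an "orbit": a list of distinct fundamental reflections whose roots are pairwise orthogonal -/
def IsOrb (D : ChevalleyDatum) (O : List ℕ) : Prop :=
  O.Nodup ∧ (∀ j ∈ O, j < D.rank) ∧
    ∀ j ∈ O, ∀ k ∈ O, j ≠ k → D.reflectRoot j (D.simple k) = D.simple k

/-- `∏ x_{-p_j}(1)`, `j ∈ O` -/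
def xNegO (D : ChevalleyDatum) (hB : H8Base.{u} D) (O : List ℕ) : GL D.Idx F :=
  (O.map fun j => h8xU D hB (D.neg (D.simple j)) (1 : F)).prod

/-- `w` permutes the fundamental roots of the orbit `O` -/
def PermO (D : ChevalleyDatum) (w O : List ℕ) : Prop :=
  ∀ j ∈ O, ∃ k ∈ O, h8sW D w (D.simple j) = D.simple k

/-- the twisted analogue of `JProp`: `w` is an involution on the roots and, for every orbit, either permutes its
fundamental roots or makes all of them negative -/
def JPropT (D : ChevalleyDatum) (orbs : List (List ℕ)) (w : List ℕ) : Prop :=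
  (∀ r < D.nroots, h8sW D w (h8sW D w r) = r) ∧
  ∀ O ∈ orbs, PermO D w O ∨ ∀ j ∈ O, ¬ D.IsPosRoot (h8sW D w (D.simple j))

/-- equivariance of `w` with respect to the orbits -/
def EquiO (D : ChevalleyDatum) (orbs : List (List ℕ)) (w : List ℕ) : Prop :=
  ∀ O ∈ orbs, ((∃ j ∈ O, D.IsPosRoot (h8sW D w (D.simple j))) →
      ∀ j ∈ O, D.IsPosRoot (h8sW D w (D.simple j))) ∧
    ((∃ j ∈ O, ∃ k ∈ O, h8sW D w (D.simple j) = D.simple k) → PermO D w O)

/-- the conclusion of the twisted form of the lemma LS of project INV for the word `w`: a nonempty set of positive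
roots which `w` maps to positive roots can be moved by a product of orbits permuted by `w`, staying positive, so that
one of them becomes a fundamental root of an orbit permuted by `w` -/
def LSProp (D : ChevalleyDatum) (orbs : List (List ℕ)) (w : List ℕ) : Prop :=
  ∀ S : Finset ℕ, S.Nonempty → (∀ r ∈ S, D.IsPosRoot r ∧ D.IsPosRoot (h8sW D w r)) →
    ∃ vs : List (List ℕ), (∀ O ∈ vs, O ∈ orbs ∧ PermO D w O) ∧
      (∀ r ∈ S, D.IsPosRoot (h8sW D vs.flatten r)) ∧
      ∃ r₀ ∈ S, ∃ O ∈ orbs, PermO D w O ∧ ∃ j ∈ O, h8sW D vs.flatten r₀ = D.simple j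

end Cfsg.Agent.Lib.helper14.TWI
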