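import Mathlib
import Cfsg.Prelude.Def_ChevStructure
import Cfsg.Prelude.Def_LieTwisted
import Cfsg.Agent.Lib.helper14.TWI.Defs
import Cfsg.Agent.Lib.helper14.INV.F4Defs

/-!
# Project TWI (S2183): the data for `³D₄(q)`, `q` even

Roots of `chevD4`: `18, 14, 13, 12` are the fundamental roots `p₁, p₂, p₃, p₄` (`p₂` the central node), `23` is the
highest root, `17, 20, 21` are `p₂+p₃+p₄, p₁+p₂+p₄, p₁+p₂+p₃`. The graph automorphism permutes `18 → 13 → 12 → 18`.
-/

set_option autoImplicit false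

namespace Cfsg.Agent.Lib.helper14.TWI

open Cfsg.Lie Cfsg.Lie.ChevalleyDatum Cfsg.Agent.Lib.helper8 Cfsg.Agent.Lib.helper14
  Cfsg.Agent.Lib.helper14.INV

/-- the orbits of the graph automorphism on the fundamental reflections -/
def d4Orbs : List (List ℕ) := [[1], [0, 2, 3]]

/-- the four elements of `W(D₄)` with the property `JPropT`: `w₀`, `w₀ s_{p₂}`, `w₀ s_{p₁} s_{p₃} s_{p₄}`, `1`, as
lists of the images of the `24` roots -/
def d4Tabs : List (List ℕ) :=
  [[23, 22, 21, 20, 19, 18, 17, 16, 15, 14, 13, 12, 11, 10, 9, 8, 7, 6, 5, 4, 3, 2, 1, 0],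
   [22, 23, 21, 20, 18, 19, 17, 13, 12, 9, 16, 15, 8, 7, 14, 11, 10, 6, 4, 5, 3, 2, 0, 1],
   [23, 14, 15, 16, 17, 5, 19, 20, 21, 22, 10, 11, 12, 13, 1, 2, 3, 4, 18, 6, 7, 8, 9, 0],
   [0, 1, 2, 3, 4, 5, 6, 7, 8, 9, 10, 11, 12, 13, 14, 15, 16, 17, 18, 19, 20, 21, 22, 23]]

/-- for each of the first three tables, pairwise orthogonal positive roots, stable under the graph automorphism,
whose reflections multiply to it -/
def d4Std : List (List ℕ) := [[12, 13, 18, 23], [17, 20, 21], [23]]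

/-- the class representative to which `∏ x_r(1)`, `r ∈ d4Std[k]`, is conjugate -/
def d4Rep : List (List ℕ) := [[17, 20, 21], [17, 20, 21], [23]]

/-- the two class representatives `x_23(1)` (long root element) and `x_17(1) x_20(1) x_21(1)` (short root
element) -/
def d4Reps : List (List ℕ) := [[23], [17, 20, 21]]

end Cfsg.Agent.Lib.helper14.TWI
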