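import Mathlib
import Cfsg.Prelude.Def_ChevStructure
import Cfsg.Agent.Lib.helper14.TWI.Defs
import Cfsg.Agent.Lib.helper14.INV.Gen
import Cfsg.Agent.Lib.helper8.ChevIE7b
import Cfsg.Agent.Lib.Helper1.TWIORB3
import Cfsg.Agent.Lib.Helper1.TWITRIV
import Cfsg.Agent.Lib.Helper10.TWINOTB
import Cfsg.Agent.Lib.Helper10.TWIPARC
import Cfsg.Agent.Lib.Helper16.TWIORB1
import Cfsg.Agent.Lib.Helper20.TWIMAXCS
import Cfsg.Agent.Lib.Helper20.TWIMAXS
import Cfsg.Agent.Lib.Helper20.TWINFS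
import Cfsg.Agent.Lib.Helper22.TWICOMMO
import Cfsg.Agent.Lib.Helper22.TWIM2C
import Cfsg.Agent.Lib.Helper22.TWIMULR
import Cfsg.Agent.Lib.Helper25.TWIM1O
import Cfsg.Agent.Lib.helper23.TWIM2O

/-!
# Project TWI (S2183): the generic assembly — every involution of a twisted group is conjugate into `N`
-/

set_option autoImplicit false

namespace Cfsg.Agent.Lib.helper14.TWI

open Cfsg.Lie Cfsg.Lie.ChevalleyDatum Cfsg.Agent.Lib.helper8 Cfsg.Agent.Lib.helper14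
  Cfsg.Agent.Lib.helper14.INV

universe u

variable {F : Type u} [Field F]

/-- in a maximal cell, if `w` maps the fundamental roots of an orbit to positive roots, one of them goes to a
fundamental root of the orbit -/
theorem max_orbS (D : ChevalleyDatum) (hB : H8Base.{u} D) (hB0 : H8Base.{0} D)
    (hA : H8ReflAll D) (hC : H8CommAll.{u} D) (hBN : H8BN D) (hW : H8BN2 D) (hO2 : H8Ord2 D)
    (G₁ : Subgroup (GL D.Idx F))
    (w : List ℕ) (hw : ValidW D w) (h0 u : GL D.Idx F) (hh : h0 ∈ D.diagonalSubgroup F)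
    (hu : u ∈ D.posUnipotent F)
    (hsq : (h0 * (h8nWU D hB w : GL D.Idx F) * u) * (h0 * (h8nWU D hB w : GL D.Idx F) * u) = 1)
    (hmax : IsMaxS D hB hA G₁ (h0 * (h8nWU D hB w : GL D.Idx F) * u) w)
    (O : List ℕ) (hO : IsOrb D O) (hne : O ≠ []) (hxO : (xNegO D hB O : GL D.Idx F) ∈ G₁)
    (hpos : ∀ j ∈ O, D.IsPosRoot (h8sW D w (D.simple j))) :
    ∃ j ∈ O, ∃ k ∈ O, h8sW D w (D.simple j) = D.simple k := by
  by_contra hcon
  push_neg at hcon
  have hinv := invol_sq D hB hA hC hBN hW hO2 w hw h0 u hh hu hsq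
  have hcell : InCell D hB (h0 * (h8nWU D hB w : GL D.Idx F) * u) w :=
    ⟨h0, h8H_le_B D hh, u, h8U_le_B D hu, rfl⟩
  obtain ⟨h1, h2⟩ := cell_conj_neg_orb D hB hB0 hA hC hBN hW hO2 w hw _ hcell O hO hinv hpos hcon
  have hv : ValidW D (O ++ w ++ O.reverse) := by
    intro k hk
    simp only [List.mem_append, List.mem_reverse] at hk
    rcases hk with (hk | hk) | hk
    · exact hO.2.1 k hk
    · exact hw k hk
    · exact hO.2.1 k hk
  have := hmax _ hxO _ hv h1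
  have hl : 0 < O.length := List.length_pos_of_ne_nil hne
  omega

/-- KILL : in a maximal cell the unipotent part is trivial -/
theorem max_u_trivialS (D : ChevalleyDatum) (hB : H8Base.{u} D) (hB0 : H8Base.{0} D)
    (hA : H8ReflAll D) (hC : H8CommAll.{u} D) (hBN : H8BN D) (hW : H8BN2 D) (hO : H8Ord D)
    (hO2 : H8Ord2 D) (G₁ : Subgroup (GL D.Idx F)) (orbs : List (List ℕ))
    (horb : ∀ O ∈ orbs, IsOrb D O ∧ (h8nWU D hB O : GL D.Idx F) ∈ G₁)
    (w : List ℕ) (hw : ValidW D w) (h0 u : GL D.Idx F) (hh : h0 ∈ D.diagonalSubgroup F)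
    (hu : u ∈ D.posUnipotent F)
    (hsq : (h0 * (h8nWU D hB w : GL D.Idx F) * u) * (h0 * (h8nWU D hB w : GL D.Idx F) * u) = 1)
    (hmax : IsMaxS D hB hA G₁ (h0 * (h8nWU D hB w : GL D.Idx F) * u) w)
    (hLS : LSProp D orbs w) :
    u = 1 := by
  classical
  obtain ⟨c, rfl, hc⟩ := invol_supp_b D hB hA hC hBN hW hO hO2 w hw h0 u hh hu hsq
  by_cases hall : ∀ r, D.IsPosRoot r → c r = 0
  · exact f4cW_zero' D hB c hall
  · exfalso
    push_neg at hall
    obtain ⟨r₁, hr₁, hcr₁⟩ := hall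
    set S : Finset ℕ := (Finset.range D.nroots).filter fun r => D.IsPosRoot r ∧ c r ≠ 0 with hS
    have hSne : S.Nonempty := ⟨r₁, by
      rw [hS, Finset.mem_filter, Finset.mem_range]; exact ⟨hr₁.1, hr₁, hcr₁⟩⟩
    have hSJ : ∀ r ∈ S, D.IsPosRoot r ∧ D.IsPosRoot (h8sW D w r) := by
      intro r hr
      rw [hS, Finset.mem_filter] at hr
      exact ⟨hr.2.1, hc r hr.2.1 hr.2.2⟩
    obtain ⟨vs, hvs, hvpos, r₀, hr₀S, O, hOo, hpO, j, hjO, hr₀j⟩ := hLS S hSne hSJ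
    have hOrb := (horb O hOo).1
    have hjr : j < D.rank := hOrb.2.1 j hjO
    have hvV : ValidW D vs.flatten := by
      intro i hi
      rw [List.mem_flatten] at hi
      obtain ⟨O', hO', hi'⟩ := hi
      exact (horb O' (hvs O' hO').1).1.2.1 i hi'
    have hr₀ : D.IsPosRoot r₀ ∧ c r₀ ≠ 0 := by
      rw [hS, Finset.mem_filter] at hr₀S; exact hr₀S.2
    obtain ⟨h1, hh1, e1⟩ := conj_N_by_orbs D hB hB0 hA hC hBN hW hO2 w hw h0 hh vs
      (fun O' hO' => ⟨(horb O' (hvs O' hO').1).1, (hvs O' hO').2⟩)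
    obtain ⟨a, ha, u₁, hu₁, e2⟩ := conj_word_form D hB hA hC hBN hW vs.flatten hvV c j hjr r₀
      hr₀.1 hr₀.2 hr₀j (fun r hr hcr => hvpos r (by
        rw [hS, Finset.mem_filter, Finset.mem_range]; exact ⟨hr.1, hr, hcr⟩))
    have hnG : (h8nWU D hB vs.flatten : GL D.Idx F) ∈ G₁ := by
      have : ∀ l : List (List ℕ), (∀ O' ∈ l, O' ∈ orbs) →
          (h8nWU D hB l.flatten : GL D.Idx F) ∈ G₁ := by
        intro l
        induction l with
        | nil => intro _; exact Subgroup.one_mem _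
        | cons O' l ih =>
          intro hl
          rw [List.flatten_cons, h8nWU_append]
          exact Subgroup.mul_mem _ (horb O' (hl O' List.mem_cons_self)).2
            (ih fun O'' hO'' => hl O'' (List.mem_cons_of_mem _ hO''))
      exact this vs fun O' hO' => (hvs O' hO').1
    have hconj : (h8nWU D hB vs.flatten : GL D.Idx F) *
        (h0 * (h8nWU D hB w : GL D.Idx F) * f4cW D hB 0 c) *
        (h8nWU D hB vs.flatten : GL D.Idx F)⁻¹ =
        h1 * (h8nWU D hB w : GL D.Idx F) * (h8xU D hB (D.simple j) a * u₁) := by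
      rw [← e1, ← e2]; group
    have hmax' := isMaxS_conj D hB hA G₁ _ _ hnG w hmax
    rw [hconj] at hmax'
    have hpj := h8simple_pos D hBN j hjr
    have hu' : h8xU D hB (D.simple j) a * u₁ ∈ D.posUnipotent F :=
      Subgroup.mul_mem _ (h8xU_mem_U D hB _ hpj a) (up_le_U D hB _ hu₁)
    have hnb := orb_conj_not_borel D hB hB0 hA hC hBN hW hO hO2 O hOrb j hjO a ha u₁ hu₁
    obtain ⟨x, hxs, hxne, hcell, hlen⟩ := cell_conj_n_orb D hB hB0 hA hC hBN hW hO2 w hw O hOrb h1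
      (h8xU D hB (D.simple j) a * u₁) hh1 hu' hpO hnb
    have hv : ValidW D (w ++ x) := by
      intro k hk
      rcases List.mem_append.mp hk with hk | hk
      · exact hw k hk
      · exact hOrb.2.1 k (hxs.subset hk)
    have := hmax' _ (horb O hOo).2 _ hv hcell
    have hl : 0 < x.length := List.length_pos_of_ne_nil hxne
    omega

/-- FIN : every involution of `G₁` is conjugate in `G₁` to an element `h n_w` of `N`, where `w` has the property
`JPropT` -/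
theorem invol_conj_NS (D : ChevalleyDatum) (hB : H8Base.{u} D) (hB0 : H8Base.{0} D)
    (hA : H8ReflAll D) (hC : H8CommAll.{u} D) (hBN : H8BN D) (hW : H8BN2 D) (hO : H8Ord D)
    (hO2 : H8Ord2 D) (G₁ : Subgroup (GL D.Idx F)) (hG₁ : G₁ ≤ D.group F)
    (hNF : ∀ g ∈ G₁, ∃ u₁ ∈ D.posUnipotent F ⊓ G₁, ∃ m ∈ D.monomialSubgroup F ⊓ G₁,
      ∃ u₂ ∈ D.posUnipotent F ⊓ G₁, g = u₁ * m * u₂)
    (orbs : List (List ℕ))
    (horb : ∀ O ∈ orbs, IsOrb D O ∧ O ≠ [] ∧ (xNegO D hB O : GL D.Idx F) ∈ G₁ ∧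
      (h8nWU D hB O : GL D.Idx F) ∈ G₁)
    (hequi : ∀ w, ValidW D w → ∀ h0 ∈ D.diagonalSubgroup F,
      h0 * (h8nWU D hB w : GL D.Idx F) ∈ G₁ → EquiO D orbs w)
    (hLS : ∀ w, ValidW D w → JPropT D orbs w → (∃ r < D.nroots, h8sW D w r ≠ r) →
      LSProp D orbs w)
    (hcore : ∀ k : GL D.Idx F, (∀ g ∈ G₁, g * k * g⁻¹ ∈ D.borelSubgroup F) → k = 1)
    (t : GL D.Idx F) (ht : t ∈ G₁) (hsq : t * t = 1) (ht1 : t ≠ 1) :
    ∃ g ∈ G₁, ∃ w : List ℕ, ValidW D w ∧ JPropT D orbs w ∧ (∃ r < D.nroots, h8sW D w r ≠ r) ∧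
      ∃ h0 ∈ D.diagonalSubgroup F, g * t * g⁻¹ = h0 * (h8nWU D hB w : GL D.Idx F) := by
  obtain ⟨g, hg, w, hw, hcell, hmax⟩ := exists_maxS D hB hA hC hBN hW G₁ hG₁ t ht
  have hnid : ∃ r < D.nroots, h8sW D w r ≠ r := by
    by_contra hid
    push_neg at hid
    apply ht1
    apply hcore
    intro g' hg'
    have hyG : g' * t * g'⁻¹ ∈ D.group F :=
      hG₁ (Subgroup.mul_mem _ (Subgroup.mul_mem _ hg' ht) (Subgroup.inv_mem _ hg'))
    obtain ⟨w', hw', hc'⟩ := exists_cell D hB hA hC hBN hW _ hyG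
    have h1 := hmax g' hg' w' hw' hc'
    rw [len_of_id D hA w hw hid] at h1
    exact cell_len_zero D hB hB0 hA hBN hW hO2 w' hw' (by omega) _ hc'
  have hyG : g * t * g⁻¹ ∈ G₁ := Subgroup.mul_mem _ (Subgroup.mul_mem _ hg ht) (Subgroup.inv_mem _ hg)
  obtain ⟨b, hb, h0, hh, u, hu, hmG, e⟩ := cell_normal_formS D hB hA hC hBN hW G₁ hNF _ hyG w hw hcell
  have hbG : b ∈ G₁ := hb.2
  have hbgG : b * g ∈ G₁ := Subgroup.mul_mem _ hbG hg
  have e' : (b * g) * t * (b * g)⁻¹ = h0 * (h8nWU D hB w : GL D.Idx F) * u := by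
    rw [← e]; group
  have hmax' := isMaxS_conj D hB hA G₁ t (b * g) hbgG w hmax
  rw [e'] at hmax'
  have hsq' : (h0 * (h8nWU D hB w : GL D.Idx F) * u) * (h0 * (h8nWU D hB w : GL D.Idx F) * u) = 1 := by
    rw [← e']
    exact conjN_sq _ _ hsq
  have hinv := invol_sq D hB hA hC hBN hW hO2 w hw h0 u hh hu hsq'
  have hE := hequi w hw h0 hh hmG
  have hJ : JPropT D orbs w := by
    refine ⟨hinv, fun O hOo => ?_⟩
    obtain ⟨hOrb, hOne, hxO, _⟩ := horb O hOo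
    by_cases hex : ∃ j ∈ O, D.IsPosRoot (h8sW D w (D.simple j))
    · left
      have hall := (hE O hOo).1 hex
      exact (hE O hOo).2 (max_orbS D hB hB0 hA hC hBN hW hO2 G₁ w hw h0 u hh hu hsq' hmax' O hOrb
        hOne hxO hall)
    · right
      push_neg at hex
      exact hex
  have hu1 := max_u_trivialS D hB hB0 hA hC hBN hW hO hO2 G₁ orbs
    (fun O hOo => ⟨(horb O hOo).1, (horb O hOo).2.2.2⟩) w hw h0 u hh hu hsq' hmax' (hLS w hw hJ hnid)
  refine ⟨b * g, hbgG, w, hw, hJ, hnid, h0, hh, ?_⟩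
  rw [e', hu1, mul_one]

end Cfsg.Agent.Lib.helper14.TWI
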