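import Mathlib
import Cfsg.Prelude.Def_ChevStructure
import Cfsg.Prelude.Def_LieTwisted
import Cfsg.Agent.Lib.helper14.TWI.Gen
import Cfsg.Agent.Lib.helper14.TWI.D4Defs
import Cfsg.Agent.Lib.helper14.INVNCb
import Cfsg.Agent.Lib.helper14.INVFUSEb
import Cfsg.Agent.Lib.helper14.INVHodd
import Cfsg.Agent.Lib.helper8.ChevTwB7
import Cfsg.Agent.Lib.helper23.INVSAMEPERM
import Cfsg.Agent.Lib.Helper1.TWISTDA
import Cfsg.Agent.Lib.Helper16.TWILEMNS
import Cfsg.Agent.Lib.helper14.TWIFUSE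
import Cfsg.Agent.Lib.helper14.TWIFUSES
import Cfsg.Agent.Lib.helper14.TWINC
import Cfsg.Agent.Lib.helper14.TWISTDCb
import Cfsg.Agent.Lib.helper14.TWITAB
import Cfsg.Agent.Lib.helper23.TWIINST0
import Cfsg.Agent.Lib.helper23.TWISTDN
import Cfsg.Agent.Lib.helper6.TWIMEM
import Cfsg.Agent.Lib.helper8.TWIINST1
import Cfsg.Agent.Lib.helper8.TWIINST2
import Cfsg.Agent.Lib.helper8.TWIINST3
import Cfsg.Agent.Lib.helper8.TWIINST4

/-!
# Project TWI (S2183): the assembly for `³D₄(q)` — every involution is conjugate to one of the two representatives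
-/

set_option autoImplicit false

namespace Cfsg.Agent.Lib.helper14.TWI

open Cfsg.Lie Cfsg.Lie.ChevalleyDatum Cfsg.Agent.Lib.helper8 Cfsg.Agent.Lib.helper14
  Cfsg.Agent.Lib.helper14.INV

universe u

variable {K : Type u} [Field K]

theorem cjS_refl (D : ChevalleyDatum) (G₁ : Subgroup (GL D.Idx K)) (a : GL D.Idx K) : CjS D G₁ a a :=
  ⟨1, Subgroup.one_mem _, by group⟩

theorem cjS_trans (D : ChevalleyDatum) (G₁ : Subgroup (GL D.Idx K)) {a b c : GL D.Idx K}
    (h1 : CjS D G₁ a b) (h2 : CjS D G₁ b c) : CjS D G₁ a c := by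
  obtain ⟨g, hg, e1⟩ := h1
  obtain ⟨g', hg', e2⟩ := h2
  refine ⟨g' * g, Subgroup.mul_mem _ hg' hg, ?_⟩
  rw [← e2, ← e1]; group

theorem d4_rep_mem (k : ℕ) (hk : k < 3) : d4Rep.getD k [] ∈ d4Reps := by
  interval_cases k <;> simp [d4Rep, d4Reps]

theorem d4_mem_list : chevD4 ∈ [chevG2, chevB2, chevD4, chevF4, chevE6, chevE7, chevE8] := by simp

/-- every involution of `³D₄(q)` is conjugate in `³D₄(q)` to one of the two representatives -/
theorem d4_invol_class [Fintype K] [CharP K 2] (q : ℕ) (hK : Fintype.card K = q ^ 3)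
    (t : GL chevD4.Idx K) (ht : t ∈ twistedD4 K q) (ho : orderOf t = 2) :
    ∃ a ∈ d4Reps, CjS chevD4 (twistedD4 K q) t
      (w1 chevD4 (h8base_all.{u} chevD4 d4_mem_list) a : GL chevD4.Idx K) := by
  have hD := d4_mem_list
  have hB := h8base_all.{u} chevD4 hD
  have hB0 := h8base_all.{0} chevD4 hD
  have hA := h8reflAll chevD4 hD
  have hC := h8commAll.{u} chevD4 hD
  have hBN := h8bn_all chevD4 hD
  have hW := h8bn2_all chevD4 hD
  obtain ⟨hO, hO2⟩ := h8ord_all chevD4 hD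
  have hq := d4_primePow q hK
  set G₁ := twistedD4 K q with hG₁def
  have hG₁ : G₁ ≤ chevD4.group K := h8gen_le_group chevD4 hB _
  have hsq : t * t = 1 := by
    have := pow_orderOf_eq_one t
    rw [ho, pow_two] at this
    exact this
  have hne : t ≠ 1 := by
    intro h
    rw [h, orderOf_one] at ho
    omega
  obtain ⟨hmemW, hmemN, hmemZ⟩ := d4_mem q hq hK hB
  have horb : ∀ O ∈ d4Orbs, IsOrb chevD4 O ∧ O ≠ [] ∧ (xNegO chevD4 hB O : GL chevD4.Idx K) ∈ G₁ ∧
      (h8nWU chevD4 hB O : GL chevD4.Idx K) ∈ G₁ := by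
    intro O hOo
    have hIs : ∀ O ∈ d4Orbs, IsOrb chevD4 O ∧ O ≠ [] := by
      simp only [IsOrb]
      decide +kernel
    refine ⟨(hIs O hOo).1, (hIs O hOo).2, ?_, hmemN O hOo⟩
    simp only [d4Orbs, List.mem_cons, List.not_mem_nil, or_false] at hOo
    rcases hOo with rfl | rfl
    · have := hmemW [9] (by simp)
      have e : (xNegO chevD4 hB [1] : GL chevD4.Idx K) = w1 chevD4 hB [9] := by
        unfold xNegO
        rw [w1_cons, w1_nil]
        simp only [List.map_cons, List.map_nil, List.prod_cons, List.prod_nil]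
        rfl
      rw [e]; exact this
    · have := hmemW [5, 10, 11] (by simp)
      have e : (xNegO chevD4 hB [0, 2, 3] : GL chevD4.Idx K) = w1 chevD4 hB [5, 10, 11] := by
        unfold xNegO
        rw [w1_cons, w1_cons, w1_cons, w1_nil]
        simp only [List.map_cons, List.map_nil, List.prod_cons, List.prod_nil]
        rfl
      rw [e]; exact this
  -- the maximal cell
  obtain ⟨g, hg, w, hw, hJ, hid, h0, hh, e⟩ : ∃ g ∈ G₁, ∃ w : List ℕ, ValidW chevD4 w ∧
      JPropT chevD4 d4Orbs w ∧ (∃ r < chevD4.nroots, h8sW chevD4 w r ≠ r) ∧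
      ∃ h0 ∈ chevD4.diagonalSubgroup K,
        g * t * g⁻¹ = h0 * (h8nWU chevD4 hB w : GL chevD4.Idx K) :=
    invol_conj_NS chevD4 hB hB0 hA hC hBN hW hO hO2 G₁ hG₁ (fun g hg => d4_NF q hq hK g hg) d4Orbs
      horb (fun w hw h0 hh hm => d4_equi q hq hK hB w hw h0 hh hm)
      (fun w hw hJ hid => d4_LS w hw hJ hid) (fun k hk => d4_core q hq hK k hk) t ht hsq hne
  have htab := d4_struct w hw hJ
  have hn'G : h0 * (h8nWU chevD4 hB w : GL chevD4.Idx K) ∈ G₁ := by
    rw [← e]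
    exact Subgroup.mul_mem _ (Subgroup.mul_mem _ hg ht) (Subgroup.inv_mem _ hg)
  have hn'N : h0 * (h8nWU chevD4 hB w : GL chevD4.Idx K) ∈ chevD4.monomialSubgroup K :=
    Subgroup.mul_mem _ (h8H_le_N chevD4 hh) (h8nWU_mem_N chevD4 hB hA w hw)
  have hn'sq : (h0 * (h8nWU chevD4 hB w : GL chevD4.Idx K)) *
      (h0 * (h8nWU chevD4 hB w : GL chevD4.Idx K)) = 1 := by
    rw [← e]
    exact conjN_sq _ _ hsq
  have hn'act : ∀ r < 24, H8Act chevD4 hB (h0 * (h8nWU chevD4 hB w : GL chevD4.Idx K)) r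
      (h8sW chevD4 w r) := by
    intro r hr
    have hr' : r < chevD4.nroots := hr
    have h1 := h8nWU_act (F := K) chevD4 hB hA w hw r hr'
    have h2 := h8perm_H_id chevD4 hB h0 hh (h8sW chevD4 w r) (h8sW_lt chevD4 hA w hw r hr')
    exact h8act_mul chevD4 hB h0 _ _ _ _ h1 h2
  have hodd : Odd (Nat.card (chevD4.diagonalSubgroup K)) := H_card_odd chevD4 hD
  obtain ⟨k, hk, hkeq⟩ := List.getElem_of_mem htab
  have hk4 : k < 4 := hk
  have hσ : ∀ r < 24, h8sW chevD4 w r = (d4Tabs.getD k []).getD r 0 := by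
    intro r hr
    have h1 : ((List.range 24).map (h8sW chevD4 w)).getD r 0 = h8sW chevD4 w r := by
      rw [List.getD_eq_getElem _ _ (by simpa using hr)]
      simp
    rw [← h1, ← hkeq, List.getD_eq_getElem _ _ hk]
  have hk3 : k < 3 := by
    by_contra hcon
    have hk3' : k = 3 := by omega
    subst hk3'
    obtain ⟨r, hr, hrne⟩ := hid
    apply hrne
    rw [hσ r hr]
    have : ∀ r < 24, (d4Tabs.getD 3 []).getD r 0 = r := by decide
    exact this r hr
  obtain ⟨hzN, hzsq⟩ := d4_std_N (K := K) hB k hk3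
  have hzact := fun r hr => d4_std_act (K := K) hB k hk3 r hr
  have hzG : (n1 chevD4 hB (d4Std.getD k []) : GL chevD4.Idx K) ∈ G₁ := by
    apply hmemZ
    interval_cases k <;> simp [d4Std]
  have hH := N_same_perm chevD4 hB hA hBN hW hO2
    (h0 * (h8nWU chevD4 hB w : GL chevD4.Idx K)) _ hn'N hzN
    (fun r => (d4Tabs.getD k []).getD r 0)
    (fun r hr => by have := hn'act r hr; rwa [hσ r hr] at this) hzact
  obtain ⟨h, hhZ, eh⟩ := N_invol_conjS chevD4 hB hA hBN hodd _ _ hn'N hzN hn'sq hzsq hH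
  have hhG : h ∈ G₁ := by
    have hle : Subgroup.zpowers ((h0 * (h8nWU chevD4 hB w : GL chevD4.Idx K))⁻¹ *
        n1 chevD4 hB (d4Std.getD k [])) ≤ G₁ := by
      rw [Subgroup.zpowers_le]
      exact Subgroup.mul_mem _ (Subgroup.inv_mem _ hn'G) hzG
    exact hle hhZ
  have hc1 : CjS chevD4 G₁ t (n1 chevD4 hB (d4Std.getD k []) : GL chevD4.Idx K) := by
    refine ⟨h * g, Subgroup.mul_mem _ hhG hg, ?_⟩
    rw [← eh, ← e]; group
  have hc2 : CjS chevD4 G₁ (n1 chevD4 hB (d4Std.getD k []) : GL chevD4.Idx K)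
      (w1 chevD4 hB (d4Std.getD k [])) := by
    refine ⟨w1 chevD4 hB ((d4Std.getD k []).map chevD4.neg), ?_, d4_std_cj_b hB k hk3⟩
    interval_cases k
    · -- `[12, 13, 18, 23]`
      have h1 := hmemW [11, 10, 5] (by simp)
      have h2 := hmemW [0] (by simp)
      have e1 : (w1 chevD4 hB (([12, 13, 18, 23] : List ℕ).map chevD4.neg) : GL chevD4.Idx K) =
          w1 chevD4 hB [11, 10, 5] * w1 chevD4 hB [0] := by
        have : (([12, 13, 18, 23] : List ℕ).map chevD4.neg) = [11, 10, 5] ++ [0] := by decide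
        rw [this]
        unfold w1
        rw [List.map_append, h8wordU_append]
      show (w1 chevD4 hB (([12, 13, 18, 23] : List ℕ).map chevD4.neg) : GL chevD4.Idx K) ∈ G₁
      rw [e1]
      exact Subgroup.mul_mem _ h1 h2
    · have h1 := hmemW [6, 3, 2] (by simp)
      have : (([17, 20, 21] : List ℕ).map chevD4.neg) = [6, 3, 2] := by decide
      show (w1 chevD4 hB (([17, 20, 21] : List ℕ).map chevD4.neg) : GL chevD4.Idx K) ∈ G₁
      rw [this]; exact h1
    · have h1 := hmemW [0] (by simp)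
      have : (([23] : List ℕ).map chevD4.neg) = [0] := by decide
      show (w1 chevD4 hB (([23] : List ℕ).map chevD4.neg) : GL chevD4.Idx K) ∈ G₁
      rw [this]; exact h1
  exact ⟨d4Rep.getD k [], d4_rep_mem k hk3,
    cjS_trans chevD4 G₁ hc1 (cjS_trans chevD4 G₁ hc2 (d4_fuse_core hB hA hC hBN hO G₁ (hmemW [15, 16, 19] (by simp))
      (hmemW [17, 20, 21] (by simp)) (hmemN [1] (by simp [d4Orbs])) (hmemN [0, 2, 3] (by simp [d4Orbs]))
      k hk3))⟩

end Cfsg.Agent.Lib.helper14.TWI
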